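import Mathlib.RingTheory.Regular.RegularSequence
import Mathlib.RingTheory.Length
import Mathlib.RingTheory.Ideal.AssociatedPrime.Finiteness
import Mathlib.RingTheory.Localization.AtPrime.Basic
import Mathlib.Algebra.Module.LocalizedModule.Exact
import Mathlib.Algebra.Module.LocalizedModule.Submodule

/-!
Cutting a module by a sequence which is regular on its generic constituent: the length of the cut at
a general point is the length at the generic point.
-/

universe u v

open RingTheory.Sequence Submodule Module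
open scoped Pointwise

namespace Groth.Agent.H7Index

section Ext

variable {L : Type u} [CommRing L] {M₁ M₂ M₃ : Type v} [AddCommGroup M₁] [AddCommGroup M₂]
  [AddCommGroup M₃] [Module L M₁] [Module L M₂] [Module L M₃]

theorem isSMulRegular_of_exact {r : L} {f : M₁ →ₗ[L] M₂} {g : M₂ →ₗ[L] M₃} (hf : Function.Injective f)
    (he : Function.Exact f g) (h₁ : IsSMulRegular M₁ r) (h₃ : IsSMulRegular M₃ r) :
    IsSMulRegular M₂ r := by
  refine isSMulRegular_iff_right_eq_zero_of_smul.mpr fun x hx => ?_
  have hgx : g x = 0 := (isSMulRegular_iff_right_eq_zero_of_smul.mp h₃) (g x) (by rw [← map_smul, hx, map_zero])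
  obtain ⟨y, rfl⟩ := (he x).1 hgx
  rw [(isSMulRegular_iff_right_eq_zero_of_smul.mp h₁) y (hf (by rw [map_smul, hx, map_zero])), map_zero]

theorem quotSMulTop_map_injective {r : L} {f : M₁ →ₗ[L] M₂} {g : M₂ →ₗ[L] M₃} (hf : Function.Injective f)
    (he : Function.Exact f g) (h₃ : IsSMulRegular M₃ r) :
    Function.Injective (QuotSMulTop.map r f) := by
  refine (injective_iff_map_eq_zero _).2 fun x hx => ?_
  obtain ⟨y, rfl⟩ := Submodule.Quotient.mk_surjective _ x
  rw [QuotSMulTop.map_apply_mk, Submodule.Quotient.mk_eq_zero, Submodule.mem_smul_pointwise_iff_exists] at hx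
  obtain ⟨m, -, hm⟩ := hx
  have hgm : g m = 0 := (isSMulRegular_iff_right_eq_zero_of_smul.mp h₃) (g m)
    (by rw [← map_smul, hm, he.apply_apply_eq_zero])
  obtain ⟨z, rfl⟩ := (he m).1 hgm
  rw [Submodule.Quotient.mk_eq_zero, Submodule.mem_smul_pointwise_iff_exists]
  exact ⟨z, mem_top, hf (by rw [map_smul, hm])⟩

end Ext

theorem isWeaklyRegular_and_length_of_exact {L : Type u} [CommRing L] :
    ∀ (rs : List L) {M₁ M₂ M₃ : Type v} [AddCommGroup M₁] [AddCommGroup M₂] [AddCommGroup M₃]
      [Module L M₁] [Module L M₂] [Module L M₃] (f : M₁ →ₗ[L] M₂) (g : M₂ →ₗ[L] M₃),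
      Function.Injective f → Function.Surjective g → Function.Exact f g →
      IsWeaklyRegular M₁ rs → IsWeaklyRegular M₃ rs →
      IsWeaklyRegular M₂ rs ∧
        Module.length L (M₂ ⧸ (Ideal.ofList rs • ⊤ : Submodule L M₂)) =
          Module.length L (M₁ ⧸ (Ideal.ofList rs • ⊤ : Submodule L M₁)) +
            Module.length L (M₃ ⧸ (Ideal.ofList rs • ⊤ : Submodule L M₃)) := by
  intro rs
  induction rs with
  | nil =>
    intro M₁ M₂ M₃ _ _ _ _ _ _ f g hf hg he _ _
    refine ⟨IsWeaklyRegular.nil L M₂, ?_⟩
    have h : ∀ (M : Type v) [AddCommGroup M] [Module L M],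
        (Ideal.ofList ([] : List L) • ⊤ : Submodule L M) = ⊥ := fun M _ _ => by
      rw [Ideal.ofList_nil, Submodule.bot_smul]
    rw [(quotEquivOfEqBot _ (h M₁)).length_eq, (quotEquivOfEqBot _ (h M₂)).length_eq,
      (quotEquivOfEqBot _ (h M₃)).length_eq]
    exact Module.length_eq_add_of_exact f g hf hg he
  | cons r rs ih =>
    intro M₁ M₂ M₃ _ _ _ _ _ _ f g hf hg he h₁ h₃
    rw [isWeaklyRegular_cons_iff] at h₁ h₃
    obtain ⟨hr, hl⟩ := ih (QuotSMulTop.map r f) (QuotSMulTop.map r g)
      (quotSMulTop_map_injective hf he h₃.1) (QuotSMulTop.map_surjective r hg)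
      (QuotSMulTop.map_exact r he hg) h₁.2 h₃.2
    refine ⟨(isWeaklyRegular_cons_iff M₂ r rs).2 ⟨isSMulRegular_of_exact hf he h₁.1 h₃.1, hr⟩, ?_⟩
    rw [(quotOfListConsSMulTopEquivQuotSMulTopInner M₁ r rs).length_eq,
      (quotOfListConsSMulTopEquivQuotSMulTopInner M₂ r rs).length_eq,
      (quotOfListConsSMulTopEquivQuotSMulTopInner M₃ r rs).length_eq]
    exact hl

theorem isWeaklyRegular_and_length_of_subsingleton {L : Type u} [CommRing L] (rs : List L) (M : Type v)
    [AddCommGroup M] [Module L M] [Subsingleton M] :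
    IsWeaklyRegular M rs ∧ Module.length L (M ⧸ (Ideal.ofList rs • ⊤ : Submodule L M)) = 0 := by
  refine ⟨(isWeaklyRegular_iff_Fin M rs).2 fun i => ?_, Module.length_eq_zero⟩
  exact fun x y _ => Subsingleton.elim x y

theorem subsingleton_localizedModule {A : Type u} [CommRing A] {M : Type v} [AddCommGroup M] [Module A M]
    (S : Submonoid A) (h : ∃ f ∈ S, ∀ x : M, f • x = 0) : Subsingleton (LocalizedModule S M) := by
  obtain ⟨f, hf, h⟩ := h
  exact LocalizedModule.subsingleton_iff.2 fun x => ⟨f, hf, h x⟩

section Localized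

variable {A : Type u} [CommRing A]

/-- An equivalence of modules induces one of their localizations, linear over the localized ring. -/
noncomputable def locEquiv (S : Submonoid A) {M N : Type v} [AddCommGroup M] [AddCommGroup N] [Module A M]
    [Module A N] (e : M ≃ₗ[A] N) : LocalizedModule S M ≃ₗ[Localization S] LocalizedModule S N :=
  LinearEquiv.ofBijective (LocalizedModule.map S e.toLinearMap)
    ⟨LocalizedModule.map_injective S _ e.injective, LocalizedModule.map_surjective S _ e.surjective⟩

variable (P : Ideal A) [P.IsPrime]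

theorem isSimpleModule_localizedModule_quotient :
    IsSimpleModule (Localization.AtPrime P) (LocalizedModule P.primeCompl (A ⧸ P)) := by
  have key : ∀ (a : A) (s : P.primeCompl), LocalizedModule.mk (Ideal.Quotient.mk P a) s ≠ 0 → a ∉ P :=
    fun a s h ha => h (by rw [Ideal.Quotient.eq_zero_iff_mem.2 ha, LocalizedModule.zero_mk])
  refine isSimpleModule_iff_toSpanSingleton_surjective.2 ⟨⟨0, LocalizedModule.mk 1 1, fun h => ?_⟩, ?_⟩
  · obtain ⟨c, hc⟩ := LocalizedModule.mk_eq.1 (h.symm.trans (LocalizedModule.zero_mk (1 : P.primeCompl)).symm)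
    simp only [smul_zero, one_smul, Submonoid.smul_def] at hc
    exact c.2 (Ideal.Quotient.eq_zero_iff_mem.1 (by
      rw [Algebra.smul_def, _root_.mul_one] at hc; exact hc))
  · intro z hz w
    induction z using LocalizedModule.induction_on with | h a s => ?_
    induction w using LocalizedModule.induction_on with | h b t => ?_
    obtain ⟨a, rfl⟩ := Ideal.Quotient.mk_surjective a
    obtain ⟨b, rfl⟩ := Ideal.Quotient.mk_surjective b
    refine ⟨Localization.mk (b * s) (⟨a, key a s hz⟩ * t), ?_⟩
    rw [LinearMap.toSpanSingleton_apply, LocalizedModule.mk_smul_mk, LocalizedModule.mk_eq]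
    refine ⟨1, ?_⟩
    simp only [one_smul, Submonoid.smul_def, Submonoid.coe_mul]
    rw [Algebra.smul_def, Algebra.smul_def, Algebra.smul_def]
    simp only [Ideal.Quotient.algebraMap_eq, ← map_mul]
    congr 1
    ring

/-- For a finite module which below `P` lives only at `P`, off a hypersurface not containing `P` a
sequence which is regular on `A ⧸ P` at a point is regular on the module there, and the length of the
cut is the length at `P` times that of the cut of `A ⧸ P`. -/
theorem exists_cut [IsNoetherianRing A] (N : Type u) [AddCommGroup N] [Module A N] [hN : Module.Finite A N]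
    (hsupp : ∀ p : Ideal A, p.IsPrime → Module.annihilator A N ≤ p → p ≤ P → p = P) :
    ∃ f ∉ P, ∀ (m : Ideal A) [m.IsPrime], f ∉ m → ∀ rs : List (Localization.AtPrime m),
      IsWeaklyRegular (LocalizedModule m.primeCompl (A ⧸ P)) rs →
      IsWeaklyRegular (LocalizedModule m.primeCompl N) rs ∧
        Module.length (Localization.AtPrime m)
            (LocalizedModule m.primeCompl N ⧸ (Ideal.ofList rs • ⊤ :
              Submodule (Localization.AtPrime m) (LocalizedModule m.primeCompl N))) =
          Module.length (Localization.AtPrime P) (LocalizedModule P.primeCompl N) *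
            Module.length (Localization.AtPrime m)
              (LocalizedModule m.primeCompl (A ⧸ P) ⧸ (Ideal.ofList rs • ⊤ :
                Submodule (Localization.AtPrime m) (LocalizedModule m.primeCompl (A ⧸ P)))) := by
  revert hsupp
  refine IsNoetherianRing.induction_on_isQuotientEquivQuotientPrime A hN
    (motive := fun N _ _ _ =>
      (∀ p : Ideal A, p.IsPrime → Module.annihilator A N ≤ p → p ≤ P → p = P) →
      ∃ f ∉ P, ∀ (m : Ideal A) [m.IsPrime], f ∉ m → ∀ rs : List (Localization.AtPrime m),
        IsWeaklyRegular (LocalizedModule m.primeCompl (A ⧸ P)) rs →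
        IsWeaklyRegular (LocalizedModule m.primeCompl N) rs ∧
          Module.length (Localization.AtPrime m)
              (LocalizedModule m.primeCompl N ⧸ (Ideal.ofList rs • ⊤ :
                Submodule (Localization.AtPrime m) (LocalizedModule m.primeCompl N))) =
            Module.length (Localization.AtPrime P) (LocalizedModule P.primeCompl N) *
              Module.length (Localization.AtPrime m)
                (LocalizedModule m.primeCompl (A ⧸ P) ⧸ (Ideal.ofList rs • ⊤ :
                  Submodule (Localization.AtPrime m) (LocalizedModule m.primeCompl (A ⧸ P)))))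
    ?_ ?_ ?_
  · intro N _ _ _ _ _
    refine ⟨1, fun h => ‹P.IsPrime›.ne_top ((Ideal.eq_top_iff_one P).2 h), fun m _ _ rs _ => ?_⟩
    obtain ⟨h1, h2⟩ := isWeaklyRegular_and_length_of_subsingleton rs (LocalizedModule m.primeCompl N)
    exact ⟨h1, by rw [h2, Module.length_eq_zero, zero_mul]⟩
  · intro N _ _ _ p e hsupp
    by_cases hp : p.1 ≤ P
    · have hpP : p.1 = P := hsupp p.1 p.2 (by
        rw [e.annihilator_eq, Ideal.annihilator_quotient]) hp
      refine ⟨1, fun h => ‹P.IsPrime›.ne_top ((Ideal.eq_top_iff_one P).2 h), fun m _ _ rs hrs => ?_⟩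
      let e' : N ≃ₗ[A] A ⧸ P := e ≪≫ₗ Submodule.quotEquivOfEq _ _ hpP
      refine ⟨((locEquiv m.primeCompl e').isWeaklyRegular_congr rs).2 hrs, ?_⟩
      haveI := isSimpleModule_localizedModule_quotient P
      rw [(locEquiv P.primeCompl e').length_eq,
        Module.length_eq_one (Localization.AtPrime P) (LocalizedModule P.primeCompl (A ⧸ P)), one_mul]
      refine (Submodule.Quotient.equiv _ _ (locEquiv m.primeCompl e') ?_).length_eq
      rw [Submodule.map_smul'', Submodule.map_top, LinearEquiv.range]
    · obtain ⟨f, hfp, hfP⟩ := SetLike.not_le_iff_exists.1 hp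
      have hkill : ∀ x : N, f • x = 0 := fun x => e.injective (by
        obtain ⟨a, ha⟩ := Submodule.Quotient.mk_surjective _ (e x)
        rw [map_smul, map_zero, ← ha, ← Submodule.Quotient.mk_smul, Submodule.Quotient.mk_eq_zero]
        exact Ideal.mul_mem_right _ _ hfp)
      refine ⟨f, hfP, fun m _ hfm rs _ => ?_⟩
      haveI := subsingleton_localizedModule m.primeCompl (M := N) ⟨f, hfm, hkill⟩
      haveI := subsingleton_localizedModule P.primeCompl (M := N) ⟨f, hfP, hkill⟩
      obtain ⟨h1, h2⟩ := isWeaklyRegular_and_length_of_subsingleton rs (LocalizedModule m.primeCompl N)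
      exact ⟨h1, by rw [h2, Module.length_eq_zero, zero_mul]⟩
  · intro N₁ _ _ _ N₂ _ _ _ N₃ _ _ _ g h hg hh hgh ih₁ ih₃ hsupp
    obtain ⟨f₁, hf₁, H₁⟩ := ih₁ fun p hp hle => hsupp p hp ((g.annihilator_le_of_injective hg).trans hle)
    obtain ⟨f₃, hf₃, H₃⟩ := ih₃ fun p hp hle => hsupp p hp ((h.annihilator_le_of_surjective hh).trans hle)
    refine ⟨f₁ * f₃, fun h' => (‹P.IsPrime›.mem_or_mem h').elim hf₁ hf₃, fun m _ hfm rs hrs => ?_⟩
    obtain ⟨r₁, l₁⟩ := H₁ m (fun h' => hfm (m.mul_mem_right _ h')) rs hrs
    obtain ⟨r₃, l₃⟩ := H₃ m (fun h' => hfm (m.mul_mem_left _ h')) rs hrs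
    obtain ⟨r₂, l₂⟩ := isWeaklyRegular_and_length_of_exact rs
      (LocalizedModule.map m.primeCompl g) (LocalizedModule.map m.primeCompl h)
      (LocalizedModule.map_injective _ _ hg) (LocalizedModule.map_surjective _ _ hh)
      (LocalizedModule.map_exact _ g h hgh) r₁ r₃
    refine ⟨r₂, ?_⟩
    rw [l₂, l₁, l₃, Module.length_eq_add_of_exact (LocalizedModule.map P.primeCompl g)
      (LocalizedModule.map P.primeCompl h) (LocalizedModule.map_injective _ _ hg)
      (LocalizedModule.map_surjective _ _ hh) (LocalizedModule.map_exact _ g h hgh), add_mul]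

end Localized

end Groth.Agent.H7Index
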