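import Groth.Agent.H7Index.Cut
import Groth.Agent.Hensel.QuasiFiniteSplit
import Groth.Agent.RegLoc6.J2Crit
import Groth.Agent.RegLoc6.Seq
import Groth.Prelude.Def_EGA4b
import Mathlib.RingTheory.DiscreteValuationRing.Basic
import Mathlib.RingTheory.LocalProperties.Basic
import Mathlib.RingTheory.LocalRing.Module
import Mathlib.RingTheory.Jacobson.Ring
import Mathlib.FieldTheory.IsAlgClosed.Basic
import Mathlib.RingTheory.TensorProduct.Quotient
import Mathlib.RingTheory.KrullDimension.Zero
import Mathlib.RingTheory.Localization.LocalizationLocalization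
import Mathlib.RingTheory.Algebraic.MvPolynomial
import Mathlib.LinearAlgebra.Dimension.Localization

/-!
The multiplicity of a component of the special fibre of a flat algebra of finite type over a henselian
discrete valuation ring with algebraically closed residue field is a combination of the ranks of the
finite horizontal integral quotients.
-/

set_option backward.isDefEq.respectTransparency false
set_option backward.isDefEq.respectTransparency.types false

universe u

open RingTheory.Sequence Submodule Module IsLocalRing TensorProduct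
open scoped Pointwise

namespace Groth.Agent.H7Index

theorem length_restrict {R A : Type u} [CommRing R] [CommRing A] [IsLocalRing A] [Algebra R A]
    (hsurj : Function.Surjective ((residue A).comp (algebraMap R A)))
    [IsLocalRing R]
    {M : Type u} [AddCommGroup M] [Module A M] (hM : IsFiniteLength A M) [Module R M] [IsScalarTower R A M] :
    Module.length R M = Module.length A M := by
  revert ‹Module R M›
  induction hM with
  | of_subsingleton => intros; simp [Module.length_eq_zero]
  | @of_simple_quotient M _ _ N hs _ ih =>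
    intros
    have e1 : Module.length R M = Module.length R N + Module.length R (M ⧸ N) :=
      Module.length_eq_add_of_exact (N.subtype.restrictScalars R) (N.mkQ.restrictScalars R)
        Subtype.val_injective N.mkQ_surjective (LinearMap.exact_subtype_mkQ N)
    have e2 : Module.length A M = Module.length A N + Module.length A (M ⧸ N) :=
      Module.length_eq_add_of_exact N.subtype N.mkQ Subtype.val_injective N.mkQ_surjective
        (LinearMap.exact_subtype_mkQ N)
    obtain ⟨I, hI, ⟨e⟩⟩ := isSimpleModule_iff_quot_maximal.1 hs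
    obtain rfl := IsLocalRing.eq_maximalIdeal hI
    have h1 : Module.length R (M ⧸ N) = 1 := by
      rw [(e.restrictScalars R).length_eq]
      have hs1 : Function.Surjective (algebraMap R (A ⧸ maximalIdeal A)) := fun z => hsurj z
      refine Module.length_eq_one_iff.2 (isSimpleModule_iff_toSpanSingleton_surjective.2 ⟨?_, fun z hz w => ?_⟩)
      · exact Ideal.Quotient.nontrivial_iff.2 (maximalIdeal.isMaximal A).ne_top
      · let : Field (A ⧸ maximalIdeal A) := Ideal.Quotient.field _
        obtain ⟨r, hr⟩ := hs1 (w * z⁻¹)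
        refine ⟨r, ?_⟩
        rw [LinearMap.toSpanSingleton_apply, Algebra.smul_def, hr, mul_assoc, inv_mul_cancel₀ hz,
          _root_.mul_one]
    rw [e1, e2, ih, h1, Module.length_eq_one (R := A) (M := M ⧸ N)]

section Closure

variable (R A : Type u) [CommRing R] [CommRing A] [Algebra R A]

/-- The ranks of the finite horizontal integral quotients. -/
def horizRanks : AddSubgroup ℤ :=
  AddSubgroup.closure {d | ∃ p : Ideal A, p.IsPrime ∧ p.comap (algebraMap R A) = ⊥ ∧
    Module.Finite R (A ⧸ p) ∧ d = (Module.finrank R (A ⧸ p) : ℤ)}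

variable {R A} [IsDomain R] [IsNoetherianRing R] [IsNoetherianRing A]

theorem finrank_mem_horizRanks (C : Type u) [AddCommGroup C] [Module A C] [Module R C] [IsScalarTower R A C]
    [hfin : Module.Finite R C] : (Module.finrank R C : ℤ) ∈ horizRanks R A := by
  haveI hC : Module.Finite A C := Module.Finite.of_restrictScalars_finite R A C
  revert ‹Module R C›
  refine IsNoetherianRing.induction_on_isQuotientEquivQuotientPrime A hC
    (motive := fun N _ _ _ => ∀ [Module R N] [IsScalarTower R A N] [Module.Finite R N],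
      (Module.finrank R N : ℤ) ∈ horizRanks R A) ?_ ?_ ?_
  · intro N _ _ _ _ _ _ _
    rw [Module.finrank_zero_of_subsingleton, Nat.cast_zero]
    exact zero_mem _
  · intro N _ _ _ p e _ _ _
    rw [(e.restrictScalars R).finrank_eq]
    haveI := Module.Finite.equiv (e.restrictScalars R)
    by_cases hp : p.1.comap (algebraMap R A) = ⊥
    · exact AddSubgroup.subset_closure ⟨p.1, p.2, hp, Module.Finite.equiv (e.restrictScalars R), rfl⟩
    · obtain ⟨r, hr, hr0⟩ := Submodule.exists_mem_ne_zero_of_ne_bot hp
      have h0 : Module.finrank R (A ⧸ p.1) = 0 := Module.finrank_eq_zero_iff.2 fun x => ⟨r, hr0, by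
        rw [Algebra.smul_def, show algebraMap R (A ⧸ p.1) r = 0 from Ideal.Quotient.eq_zero_iff_mem.2 hr,
          zero_mul]⟩
      rw [h0, Nat.cast_zero]
      exact zero_mem _
  · intro N₁ _ _ _ N₂ _ _ _ N₃ _ _ _ f g hf hg he ih₁ ih₃ _ _ _
    letI : Module R N₁ := Module.compHom N₁ (algebraMap R A)
    haveI : IsScalarTower R A N₁ := IsScalarTower.of_algebraMap_smul fun _ _ => rfl
    letI : Module R N₃ := Module.compHom N₃ (algebraMap R A)
    haveI : IsScalarTower R A N₃ := IsScalarTower.of_algebraMap_smul fun _ _ => rfl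
    haveI : Module.Finite R N₁ := Module.Finite.of_injective (f.restrictScalars R) hf
    haveI : Module.Finite R N₃ := Module.Finite.of_surjective (g.restrictScalars R) hg
    have h := (LinearMap.ker (g.restrictScalars R)).finrank_quotient_add_finrank
    rw [((g.restrictScalars R).quotKerEquivOfSurjective hg).finrank_eq] at h
    let f' : N₁ ≃ₗ[R] LinearMap.ker (g.restrictScalars R) :=
      LinearEquiv.ofBijective ((f.restrictScalars R).codRestrict _ fun x => he.apply_apply_eq_zero x)
        ⟨fun a b hab => hf (congrArg Subtype.val hab), fun ⟨y, hy⟩ => by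
          obtain ⟨x, hx⟩ := (he y).1 hy
          exact ⟨x, Subtype.ext hx⟩⟩
    rw [← f'.finrank_eq] at h
    rw [← h, Nat.cast_add]
    exact add_mem ih₃ ih₁

end Closure

section LocQuot

variable {A : Type u} [CommRing A] (M : Ideal A) [M.IsPrime]

/-- Localization commutes with quotients. -/
noncomputable def locQuotEquiv (I : Ideal A) : LocalizedModule M.primeCompl (A ⧸ I) ≃ₗ[Localization.AtPrime M]
    Localization.AtPrime M ⧸ I.map (algebraMap A (Localization.AtPrime M)) :=
  ((IsLocalizedModule.linearEquiv M.primeCompl (LocalizedModule.mkLinearMap M.primeCompl (A ⧸ I))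
      (Submodule.toLocalizedQuotient' (Localization.AtPrime M) M.primeCompl
        (Algebra.linearMap A (Localization.AtPrime M)) I)).extendScalarsOfIsLocalization
      M.primeCompl (Localization.AtPrime M)).trans
    (Submodule.quotEquivOfEq _ _ (Ideal.localized'_eq_map (Localization.AtPrime M) M.primeCompl I))

variable (P : Ideal A) [P.IsPrime]

/-- At a point of `V(P)` where the quotient is regular there is a sequence which is regular on the quotient
and cuts out the point. -/
theorem exists_parameters (hPM : P ≤ M) [(M.map (Ideal.Quotient.mk P)).IsPrime]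
    (hreg : IsRegularLocalRing (Localization.AtPrime (M.map (Ideal.Quotient.mk P)))) :
    ∃ rs : List (Localization.AtPrime M), (∀ r ∈ rs, r ∈ maximalIdeal (Localization.AtPrime M)) ∧
      IsWeaklyRegular (LocalizedModule M.primeCompl (A ⧸ P)) rs ∧
      Module.length (Localization.AtPrime M) (LocalizedModule M.primeCompl (A ⧸ P) ⧸
        (Ideal.ofList rs • ⊤ : Submodule (Localization.AtPrime M) (LocalizedModule M.primeCompl (A ⧸ P)))) = 1 := by
  let L := Localization.AtPrime M
  let Mb : Ideal (A ⧸ P) := M.map (Ideal.Quotient.mk P)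
  have hM : Mb.comap (Ideal.Quotient.mk P) = M := by
    rw [Ideal.comap_map_of_surjective _ Ideal.Quotient.mk_surjective, ← RingHom.ker, Ideal.mk_ker,
      sup_eq_left.2 hPM]
  let φ : L →+* Localization.AtPrime Mb := Localization.localRingHom M Mb (Ideal.Quotient.mk P) hM.symm
  have hφs : Function.Surjective φ := fun z => by
    obtain ⟨a, s, rfl⟩ := IsLocalization.exists_mk'_eq Mb.primeCompl z
    obtain ⟨a, rfl⟩ := Ideal.Quotient.mk_surjective a
    obtain ⟨t, ht⟩ := Ideal.Quotient.mk_surjective (s : A ⧸ P)
    have htM : t ∈ M.primeCompl := fun h => s.2 (ht ▸ Ideal.mem_map_of_mem _ h)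
    refine ⟨IsLocalization.mk' L a ⟨t, htM⟩, ?_⟩
    rw [Localization.localRingHom_mk']
    congr 1
    exact Subtype.ext ht
  have hker : RingHom.ker φ = P.map (algebraMap A L) := by
    refine le_antisymm (fun z hz => ?_) (Ideal.map_le_iff_le_comap.2 fun a ha => ?_)
    · obtain ⟨a, s, rfl⟩ := IsLocalization.exists_mk'_eq M.primeCompl z
      rw [RingHom.mem_ker, Localization.localRingHom_mk', IsLocalization.mk'_eq_zero_iff] at hz
      obtain ⟨t, ht⟩ := hz
      have ht0 : (t : A ⧸ P) ≠ 0 := fun h => t.2 (h ▸ Mb.zero_mem)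
      have ha : a ∈ P := Ideal.Quotient.eq_zero_iff_mem.1 ((mul_eq_zero.1 ht).resolve_left ht0)
      exact IsLocalization.mk'_mem_iff.2 (Ideal.mem_map_of_mem _ ha)
    · rw [Ideal.mem_comap, RingHom.mem_ker, Localization.localRingHom_to_map,
        Ideal.Quotient.eq_zero_iff_mem.2 ha, map_zero]
  haveI : IsRegularLocalRing (L ⧸ P.map (algebraMap A L)) :=
    IsRegularLocalRing.of_ringEquiv
      ((Ideal.quotEquivOfEq hker.symm).trans (RingHom.quotientKerEquivOfSurjective hφs)).symm
  let Lb := L ⧸ P.map (algebraMap A L)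
  obtain ⟨rb, hrb, hgen⟩ := RegLoc6.exists_regularSequence_maximalIdeal Lb
  let rs : List L := rb.map (Function.surjInv (Ideal.Quotient.mk_surjective (I := P.map (algebraMap A L))))
  have hmap : rs.map (algebraMap L Lb) = rb := by
    rw [List.map_map]
    exact List.map_congr_left (g := id) (fun r _ => Function.surjInv_eq _ r) |>.trans (List.map_id _)
  have hle : ∀ r ∈ rs, r ∈ maximalIdeal L := fun r hr => by
    have hr' : algebraMap L Lb r ∈ maximalIdeal Lb := by
      rw [← hgen]
      exact Ideal.subset_span (hmap ▸ List.mem_map_of_mem hr)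
    exact fun hu => hr' (hu.map _)
  refine ⟨rs, hle, ?_, ?_⟩
  · rw [(locQuotEquiv M P).isWeaklyRegular_congr, ← isWeaklyRegular_map_algebraMap_iff (S := Lb)]
    exact hmap.symm ▸ hrb.toIsWeaklyRegular
  · have e : (LocalizedModule M.primeCompl (A ⧸ P) ⧸
        (Ideal.ofList rs • ⊤ : Submodule L (LocalizedModule M.primeCompl (A ⧸ P)))) ≃ₗ[L]
        Lb ⧸ (Ideal.ofList rs • ⊤ : Submodule L Lb) :=
      Submodule.Quotient.equiv _ _ (locQuotEquiv M P)
        (by rw [Submodule.map_smul'', Submodule.map_top, LinearEquiv.range])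
    let g : L →ₗ[L] Lb ⧸ (Ideal.ofList rs • ⊤ : Submodule L Lb) :=
      (Submodule.mkQ _).comp (Algebra.linearMap L Lb)
    have hgs : Function.Surjective g :=
      (Submodule.mkQ_surjective _).comp Ideal.Quotient.mk_surjective
    have hgk : LinearMap.ker g = maximalIdeal L := by
      ext z
      rw [LinearMap.mem_ker, LinearMap.comp_apply, Submodule.mkQ_apply, Submodule.Quotient.mk_eq_zero,
        Ideal.smul_top_eq_map, Submodule.restrictScalars_mem, Ideal.map_ofList, hmap, hgen,
        Algebra.linearMap_apply]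
      exact ⟨fun h hu => h (hu.map _), fun h hu =>
        h ((Ideal.Quotient.mk_surjective.isLocalHom _).map_nonunit z hu)⟩
    rw [e.length_eq, ← (g.quotKerEquivOfSurjective hgs).length_eq, hgk]
    exact Module.length_eq_one_iff.2 (isSimpleModule_iff_isCoatom.2 (maximalIdeal.isMaximal L).out)

end LocQuot

section Helpers

theorem isFiniteLength_localized {A : Type u} [CommRing A] [IsNoetherianRing A] {I P : Ideal A} [P.IsPrime]
    (hP : P ∈ I.minimalPrimes) :
    IsFiniteLength (Localization.AtPrime P) (LocalizedModule P.primeCompl (A ⧸ I)) := by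
  let L := Localization.AtPrime P
  let J := I.map (algebraMap A L)
  have hJ : J ≤ maximalIdeal L := by
    rw [← Localization.AtPrime.map_eq_maximalIdeal]; exact Ideal.map_mono hP.1.2
  haveI : Ring.KrullDimLE 0 (L ⧸ J) := Ring.KrullDimLE.mk₀ fun Q hQ => by
    have hQJ : J ≤ Q.comap (Ideal.Quotient.mk J) := fun x hx => by
      rw [Ideal.mem_comap, Ideal.Quotient.eq_zero_iff_mem.2 hx]; exact Q.zero_mem
    have h1 : I ≤ (Q.comap (Ideal.Quotient.mk J)).comap (algebraMap A L) :=
      (Ideal.map_le_iff_le_comap.1 le_rfl).trans (Ideal.comap_mono hQJ)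
    have h2 : (Q.comap (Ideal.Quotient.mk J)).comap (algebraMap A L) ≤ P := by
      refine (Ideal.comap_mono (IsLocalRing.le_maximalIdeal (Ideal.IsPrime.ne_top inferInstance))).trans ?_
      exact (IsLocalization.AtPrime.comap_maximalIdeal L P).le
    have h3 : (Q.comap (Ideal.Quotient.mk J)).comap (algebraMap A L) = P :=
      le_antisymm h2 (hP.2 ⟨inferInstance, h1⟩ h2)
    have h4 : Q.comap (Ideal.Quotient.mk J) = maximalIdeal L :=
      (IsLocalization.map_comap P.primeCompl L (Q.comap (Ideal.Quotient.mk J))).symm.trans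
        ((congrArg (Ideal.map (algebraMap A L)) h3).trans Localization.AtPrime.map_eq_maximalIdeal)
    rw [← Ideal.map_comap_of_surjective _ (Ideal.Quotient.mk_surjective (I := J)) Q, h4]
    exact (Ideal.map_eq_top_or_isMaximal_of_surjective _ Ideal.Quotient.mk_surjective
      (maximalIdeal.isMaximal L)).resolve_left fun h => hQ.ne_top (by
        rw [← Ideal.map_comap_of_surjective _ (Ideal.Quotient.mk_surjective (I := J)) Q, h4, h])
  haveI : IsArtinianRing (L ⧸ J) := IsNoetherianRing.isArtinianRing_of_krullDimLE_zero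
  refine Module.length_ne_top_iff.1 ?_
  rw [(locQuotEquiv P I).length_eq,
    Module.length_eq_of_surjective (S := L) (R := L ⧸ J) Ideal.Quotient.mk_surjective]
  exact Module.length_ne_top

/-- A closed point isolated in the special fibre of a cut gives a finite module over a henselian base. -/
theorem finite_cut {R A : Type u} [CommRing R] [HenselianLocalRing R] [CommRing A] [Algebra R A]
    [Algebra.FiniteType R A] [IsNoetherianRing A] (M : Ideal A) [M.IsMaximal]
    (J : Ideal (Localization.AtPrime M)) (t : Localization.AtPrime M) (htm : t ∈ maximalIdeal _)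
    (hfin : IsFiniteLength (Localization.AtPrime M)
      (QuotSMulTop t (Localization.AtPrime M ⧸ (J • ⊤ : Submodule (Localization.AtPrime M) (Localization.AtPrime M)))))
    [hM : M.LiesOver (maximalIdeal R)]
    (ht : t ∈ (maximalIdeal R).map (algebraMap R (Localization.AtPrime M)))
    (hJ : J ≤ maximalIdeal _) :
    Module.Finite R (Localization.AtPrime M ⧸ (J • ⊤ : Submodule (Localization.AtPrime M) (Localization.AtPrime M))) := by
  classical
  let L := Localization.AtPrime M
  let J₀ := J.comap (algebraMap A L)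
  have hJ₀ : J₀ ≤ M := (Ideal.comap_mono hJ).trans (le_of_eq (IsLocalization.AtPrime.comap_maximalIdeal L M))
  let S := A ⧸ J₀
  let q : Ideal S := M.map (Ideal.Quotient.mk J₀)
  have hqc : q.comap (Ideal.Quotient.mk J₀) = M := by
    rw [Ideal.comap_map_of_surjective _ Ideal.Quotient.mk_surjective, ← RingHom.ker, Ideal.mk_ker,
      sup_eq_left.2 hJ₀]
  haveI : q.IsMaximal := (Ideal.map_eq_top_or_isMaximal_of_surjective _ Ideal.Quotient.mk_surjective
      ‹M.IsMaximal›).resolve_left fun h => ‹M.IsMaximal›.ne_top (hqc.symm.trans (by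
        show Ideal.comap _ q = ⊤
        rw [show q = ⊤ from h, Ideal.comap_top]))
  haveI : Algebra.FiniteType R S := Algebra.FiniteType.trans (S := A) inferInstance inferInstance
  haveI : q.LiesOver (maximalIdeal R) := ⟨by
    rw [hM.over]
    show M.comap (algebraMap R A) = q.comap ((Ideal.Quotient.mk J₀).comp (algebraMap R A))
    rw [← Ideal.comap_comap, hqc]⟩
  -- `q` is minimal over the maximal ideal of `R`
  let mS := (maximalIdeal R).map (algebraMap R S)
  have hmin : ∀ p : Ideal S, p.IsPrime → mS ≤ p → p ≤ q → p = q := by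
    intro p hp hmp hpq
    let pA := p.comap (Ideal.Quotient.mk J₀)
    have hpM : pA ≤ M := (Ideal.comap_mono hpq).trans hqc.le
    let pL := pA.map (algebraMap A L)
    have hd : Disjoint (M.primeCompl : Set A) (pA : Set A) :=
      Set.disjoint_left.2 fun x hx hxp => hx (hpM hxp)
    haveI : pL.IsPrime := IsLocalization.isPrime_of_isPrime_disjoint M.primeCompl L pA inferInstance hd
    have hJp : J ≤ pL := by
      rw [← IsLocalization.map_comap M.primeCompl L J]
      exact Ideal.map_mono fun x hx => show Ideal.Quotient.mk J₀ x ∈ p by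
        rw [Ideal.Quotient.eq_zero_iff_mem.2 hx]; exact p.zero_mem
    have htp : t ∈ pL := by
      rw [IsScalarTower.algebraMap_eq R A L, ← Ideal.map_map] at ht
      refine Ideal.map_mono (Ideal.map_le_iff_le_comap.2 fun r hr => ?_) ht
      exact hmp (Ideal.mem_map_of_mem (algebraMap R S) hr)
    have hsurj : ∃ g : QuotSMulTop t (L ⧸ (J • ⊤ : Submodule L L)) →ₗ[L] L ⧸ pL, Function.Surjective g := by
      refine ⟨Submodule.liftQ _ (Submodule.liftQ _ pL.mkQ ?_) ?_, ?_⟩
      · rw [Submodule.ker_mkQ, smul_eq_mul, Ideal.mul_top]; exact hJp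
      · intro x hx
        obtain ⟨y, -, rfl⟩ := (Submodule.mem_smul_pointwise_iff_exists _ _ _).1 hx
        obtain ⟨z, rfl⟩ := Submodule.Quotient.mk_surjective _ y
        rw [LinearMap.mem_ker, map_smul, Submodule.liftQ_apply, Submodule.mkQ_apply, ← Submodule.Quotient.mk_smul,
          Submodule.Quotient.mk_eq_zero]
        exact pL.mul_mem_right z htp
      · intro z
        obtain ⟨z, rfl⟩ := Submodule.Quotient.mk_surjective _ z
        exact ⟨Submodule.Quotient.mk (Submodule.Quotient.mk z), rfl⟩
    obtain ⟨g, hg⟩ := hsurj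
    have hne : Module.length L (L ⧸ pL) ≠ ⊤ :=
      ne_top_of_le_ne_top (Module.length_ne_top_iff.2 hfin) (Module.length_le_of_surjective g hg)
    rw [Module.length_eq_of_surjective (S := L) (R := L ⧸ pL) Ideal.Quotient.mk_surjective,
      Module.length_ne_top_iff, isFiniteLength_iff_isNoetherian_isArtinian] at hne
    haveI : IsArtinianRing (L ⧸ pL) := hne.2
    have hfield := IsArtinianRing.isField_of_isDomain (L ⧸ pL)
    have hmax : pL.IsMaximal := Ideal.Quotient.maximal_of_isField _ hfield
    have hpA : pA = M := by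
      exact (IsLocalization.comap_map_of_isPrime_disjoint M.primeCompl L
        (inferInstance : (p.comap (Ideal.Quotient.mk J₀)).IsPrime) hd).symm.trans
        ((congrArg (Ideal.comap (algebraMap A L)) (IsLocalRing.eq_maximalIdeal hmax)).trans
          (IsLocalization.AtPrime.comap_maximalIdeal L M))
    exact Ideal.comap_injective_of_surjective _ Ideal.Quotient.mk_surjective (hpA.trans hqc.symm)
  -- isolation in the fibre
  haveI : IsNoetherianRing S := inferInstance
  have hset : (mS.minimalPrimes \ {q}).Finite := (Ideal.finite_minimalPrimes_of_isNoetherianRing S mS).sdiff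
  have hg : ¬ (hset.toFinset.inf id) ≤ q := by
    rw [Ideal.IsPrime.inf_le' inferInstance]
    rintro ⟨p, hp, hle⟩
    rw [Set.Finite.mem_toFinset] at hp
    exact hp.2 (hmin p hp.1.1.1 hp.1.1.2 hle)
  obtain ⟨g, hg, hgq⟩ := SetLike.not_le_iff_exists.1 hg
  haveI : Algebra.QuasiFiniteAt R q := by
    refine Algebra.QuasiFiniteAt.of_isOpen_singleton_fiber (⟨q, inferInstance⟩ : PrimeSpectrum S) ?_
    refine isOpen_induced_iff.2 ⟨PrimeSpectrum.basicOpen g, (PrimeSpectrum.basicOpen g).isOpen, ?_⟩
    ext ⟨y, hy⟩
    refine ⟨fun h => ?_, fun h => ?_⟩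
    · have hy' : (maximalIdeal R) = y.asIdeal.comap (algebraMap R S) := by
        rw [show y.asIdeal.comap (algebraMap R S) = q.comap (algebraMap R S) from
          congrArg PrimeSpectrum.asIdeal hy]
        exact ‹q.LiesOver (maximalIdeal R)›.over
      obtain ⟨p, hp, hpy⟩ := Ideal.exists_minimalPrimes_le (Ideal.map_le_iff_le_comap.2 hy'.le)
      have hpq : p = q := by
        by_contra hne
        exact h (hpy (Finset.inf_le (f := id) (hset.mem_toFinset.2 ⟨hp, hne⟩) hg))
      exact Subtype.ext (PrimeSpectrum.ext ((‹q.IsMaximal›.eq_of_le y.2.ne_top (hpq ▸ hpy)).symm))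
    · obtain rfl : y = ⟨q, inferInstance⟩ := congrArg Subtype.val h
      exact hgq
  haveI : Module.Finite R (Localization.AtPrime q) := Hensel.exists_finite_localization_of_quasiFiniteAt R q
  -- the cut is a quotient of the localization
  let ψ : S →ₐ[R] L ⧸ J := Ideal.Quotient.liftₐ J₀
    (((Ideal.Quotient.mkₐ R J)).comp (IsScalarTower.toAlgHom R A L)) fun x hx =>
      Ideal.Quotient.eq_zero_iff_mem.2 hx
  have hunit : ∀ s : q.primeCompl, IsUnit (ψ s) := fun ⟨s, hs⟩ => by
    obtain ⟨a, rfl⟩ := Ideal.Quotient.mk_surjective s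
    have haM : a ∈ M.primeCompl := fun h => hs (Ideal.mem_map_of_mem _ h)
    exact (IsLocalization.map_units L (⟨a, haM⟩ : M.primeCompl)).map (Ideal.Quotient.mk J)
  let Ψ : Localization.AtPrime q →ₐ[R] L ⧸ J := IsLocalization.liftAlgHom (f := ψ) hunit
  have hΨ : Function.Surjective Ψ := fun z => by
    obtain ⟨z, rfl⟩ := Ideal.Quotient.mk_surjective z
    obtain ⟨a, ⟨s, hs⟩, rfl⟩ := IsLocalization.exists_mk'_eq M.primeCompl z
    have hsq : Ideal.Quotient.mk J₀ s ∈ q.primeCompl := fun h => hs (hqc.le h)
    refine ⟨IsLocalization.mk' _ (Ideal.Quotient.mk J₀ a) (⟨_, hsq⟩ : q.primeCompl), ?_⟩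
    rw [IsLocalization.liftAlgHom_apply, IsLocalization.lift_mk'_spec]
    show Ideal.Quotient.mk J (algebraMap A L a) = Ideal.Quotient.mk J (algebraMap A L s) * _
    rw [← map_mul, IsLocalization.mk'_spec'_mk]
  haveI : Module.Finite R (L ⧸ J) := Module.Finite.of_surjective Ψ.toLinearMap hΨ
  exact Module.Finite.equiv
    ((Submodule.quotEquivOfEq J (J • ⊤ : Submodule L L) (by rw [smul_eq_mul, Ideal.mul_top])).restrictScalars R)

theorem flat_of_isSMulRegular {R : Type u} [CommRing R] [IsDomain R] [IsDiscreteValuationRing R] {ϖ : R}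
    (hϖ : Irreducible ϖ) {C : Type u} [AddCommGroup C] [Module R C] (h : IsSMulRegular C ϖ) :
    Module.Flat R C := by
  haveI : Module.IsTorsionFree R C := ⟨fun r hr => by
    obtain ⟨n, u, rfl⟩ := IsDiscreteValuationRing.eq_unit_mul_pow_irreducible hr.ne_zero hϖ
    exact ((IsUnit.isSMulRegular C u.isUnit).mul (h.pow n))⟩
  exact IsDedekindDomain.flat_iff_torsion_eq_bot.2 (Submodule.isTorsionFree_iff_torsion_eq_bot.1 inferInstance)

theorem length_quotSMulTop {R : Type u} [CommRing R] [IsDomain R] [IsDiscreteValuationRing R] {ϖ : R}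
    (hϖ : Irreducible ϖ) {A C : Type u} [CommRing A] [Algebra R A] [AddCommGroup C] [Module R C] [Module A C]
    [IsScalarTower R A C] [Module.Free R C] [Module.Finite R C] :
    Module.length R (QuotSMulTop (algebraMap R A ϖ) C) = (Module.finrank R C : ℕ) := by
  have hr : (maximalIdeal R • ⊤ : Submodule R C) =
      ((algebraMap R A ϖ • ⊤ : Submodule A C)).restrictScalars R := by
    rw [hϖ.maximalIdeal_eq, Submodule.ideal_span_singleton_smul]
    ext x
    rw [Submodule.restrictScalars_mem, Submodule.mem_smul_pointwise_iff_exists,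
      Submodule.mem_smul_pointwise_iff_exists]
    simp only [algebraMap_smul, mem_top, true_and]
  let e : (ResidueField R ⊗[R] C) ≃ₗ[R] QuotSMulTop (algebraMap R A ϖ) C :=
    (TensorProduct.quotTensorEquivQuotSMul C (maximalIdeal R)).trans
      ((Submodule.quotEquivOfEq _ _ hr).trans
        ((Submodule.Quotient.restrictScalarsEquiv R (algebraMap R A ϖ • ⊤ : Submodule A C)).restrictScalars R))
  rw [← e.length_eq, Module.length_eq_of_surjective (S := R) (R := ResidueField R) residue_surjective,
    Module.length_eq_finrank, Module.finrank_baseChange]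

end Helpers

theorem exists_maximal_regular {k Z : Type u} [Field k] [CommRing Z] [IsDomain Z] [Algebra k Z]
    [Algebra.FiniteType k Z] (f : Z) (hf : f ≠ 0) :
    ∃ m : Ideal Z, ∃ _ : m.IsMaximal, f ∉ m ∧ IsRegularLocalRing (Localization.AtPrime m) := by
  haveI : IsNoetherianRing Z := Algebra.FiniteType.isNoetherianRing k Z
  have hO : IsOpen (EGA4.regLocus Z) :=
    RegLoc6.isOpen_regular_of_finite_j0 k (fun A' _ _ _ hfin => by
      haveI := hfin
      let : Field A' := (Algebra.IsIntegral.isField_iff_isField (R := k) (S := A')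
        (FaithfulSMul.algebraMap_injective k A')).mp (Field.toIsField k) |>.toField
      exact ⟨1, one_ne_zero, fun Q _ _ => inferInstance⟩) Z
  let η : PrimeSpectrum Z := ⟨⊥, Ideal.isPrime_bot⟩
  have hη : η ∈ EGA4.regLocus Z := by
    haveI : IsDomain (Localization.AtPrime η.asIdeal) :=
      IsLocalization.isDomain_of_le_nonZeroDivisors (M := η.asIdeal.primeCompl) _
        fun x hx => mem_nonZeroDivisors_of_ne_zero fun h => hx (h ▸ η.asIdeal.zero_mem)
    have hm : maximalIdeal (Localization.AtPrime η.asIdeal) = ⊥ := by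
      rw [← Localization.AtPrime.map_eq_maximalIdeal]
      exact Ideal.map_bot
    letI : Field (Localization.AtPrime η.asIdeal) := (IsLocalRing.isField_iff_maximalIdeal_eq.2 hm).toField
    show IsRegularLocalRing (Localization.AtPrime η.asIdeal)
    infer_instance
  obtain ⟨-, ⟨g, rfl⟩, hηg, hgU⟩ :=
    PrimeSpectrum.isTopologicalBasis_basic_opens.exists_subset_of_mem_open hη hO
  have hg : g ≠ 0 := fun h => hηg (show g ∈ (⊥ : Ideal Z) by rw [h]; exact zero_mem _)
  haveI : IsJacobsonRing Z := isJacobsonRing_of_finiteType (A := k)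
  have hj : (⊥ : Ideal Z).jacobson = ⊥ := IsJacobsonRing.out (inferInstance : IsJacobsonRing Z) Ideal.isPrime_bot.isRadical
  have : f * g ∉ (⊥ : Ideal Z).jacobson := by rw [hj, Ideal.mem_bot]; exact mul_ne_zero hf hg
  obtain ⟨m, hm, hfg⟩ : ∃ m : Ideal Z, m.IsMaximal ∧ f * g ∉ m := by
    by_contra! h
    exact this (Ideal.mem_sInf.2 fun {m} hm => h m hm.2)
  exact ⟨m, hm, fun h => hfg (m.mul_mem_right _ h),
    hgU (show (⟨m, hm.isPrime⟩ : PrimeSpectrum Z) ∈ PrimeSpectrum.basicOpen g from
      fun h => hfg (m.mul_mem_left _ h))⟩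

/-- The multiplicity of a component of the special fibre is a combination of horizontal ranks. -/
theorem exists_length_mem_horizRanks (R : Type u) [CommRing R] [IsDomain R] [IsDiscreteValuationRing R]
    [HenselianLocalRing R] [IsAlgClosed (ResidueField R)] (A : Type u) [CommRing A] [Algebra R A]
    [Algebra.FiniteType R A] [Module.Flat R A] (P : Ideal A)
    (hP : P ∈ ((maximalIdeal R).map (algebraMap R A)).minimalPrimes) :
    haveI : P.IsPrime := hP.1.1
    ∃ ℓ : ℕ, Module.length (Localization.AtPrime P)
        (LocalizedModule P.primeCompl (A ⧸ (maximalIdeal R).map (algebraMap R A))) = ℓ ∧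
      (ℓ : ℤ) ∈ horizRanks R A := by
  haveI : P.IsPrime := hP.1.1
  haveI : IsNoetherianRing A := Algebra.FiniteType.isNoetherianRing R A
  set I := (maximalIdeal R).map (algebraMap R A) with hI
  obtain ⟨f, hfP, hcut⟩ := exists_cut P (A ⧸ I) fun p hp hle hpP =>
    le_antisymm hpP (hP.2 ⟨hp, by rwa [Ideal.annihilator_quotient] at hle⟩ hpP)
  -- the closed point
  have hmP : maximalIdeal R ≤ P.comap (algebraMap R A) := Ideal.map_le_iff_le_comap.1 hP.1.2
  letI : Algebra (ResidueField R) (A ⧸ P) := (Ideal.quotientMap P (algebraMap R A) hmP).toAlgebra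
  haveI : IsScalarTower R (ResidueField R) (A ⧸ P) := IsScalarTower.of_algebraMap_eq fun r => rfl
  haveI : Algebra.FiniteType R (A ⧸ P) := Algebra.FiniteType.trans (S := A) inferInstance inferInstance
  haveI : Algebra.FiniteType (ResidueField R) (A ⧸ P) := Algebra.FiniteType.of_restrictScalars_finiteType R _ _
  obtain ⟨mb, hmb, hfm, hreg⟩ := exists_maximal_regular (k := ResidueField R) (Ideal.Quotient.mk P f)
    fun h => hfP (Ideal.Quotient.eq_zero_iff_mem.1 h)
  let M : Ideal A := mb.comap (Ideal.Quotient.mk P)
  haveI : M.IsMaximal := Ideal.comap_isMaximal_of_surjective _ Ideal.Quotient.mk_surjective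
  have hPM : P ≤ M := fun a ha => by
    show Ideal.Quotient.mk P a ∈ mb
    rw [Ideal.Quotient.eq_zero_iff_mem.2 ha]; exact zero_mem _
  have hMb : M.map (Ideal.Quotient.mk P) = mb := Ideal.map_comap_of_surjective _ Ideal.Quotient.mk_surjective _
  haveI : (M.map (Ideal.Quotient.mk P)).IsPrime := hMb.symm ▸ hmb.isPrime
  haveI : mb.IsPrime := hmb.isPrime
  have key : ∀ (q : Ideal (A ⧸ P)) [q.IsPrime], q = mb → IsRegularLocalRing (Localization.AtPrime q) := by
    intro q _ hq; subst hq; exact hreg
  obtain ⟨rs, hrs, hrsP, hlen⟩ := exists_parameters M P hPM (key _ hMb)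
  obtain ⟨hrsI, hlenI⟩ := hcut M hfm rs hrsP
  rw [hlen, mul_one] at hlenI
  -- the residue field of the point
  let L := Localization.AtPrime M
  have hres : Function.Surjective ((residue L).comp (algebraMap R L)) := by
    letI : Field ((A ⧸ P) ⧸ mb) := Ideal.Quotient.field mb
    haveI : Algebra.FiniteType (ResidueField R) ((A ⧸ P) ⧸ mb) :=
      Algebra.FiniteType.trans (S := A ⧸ P) inferInstance inferInstance
    haveI : Module.Finite (ResidueField R) ((A ⧸ P) ⧸ mb) := finite_of_finite_type_of_isJacobsonRing _ _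
    intro z
    obtain ⟨z, rfl⟩ := residue_surjective z
    obtain ⟨a, s, rfl⟩ := IsLocalization.exists_mk'_eq M.primeCompl z
    obtain ⟨c, hc⟩ := (IsAlgClosed.algebraMap_bijective_of_isIntegral (k := ResidueField R)).2
      (Ideal.Quotient.mk mb (Ideal.Quotient.mk P a) * (Ideal.Quotient.mk mb (Ideal.Quotient.mk P s))⁻¹)
    obtain ⟨r, rfl⟩ := residue_surjective c
    refine ⟨r, ?_⟩
    rw [RingHom.comp_apply, ← sub_eq_zero, ← map_sub, residue_eq_zero_iff]
    have hs0 : Ideal.Quotient.mk mb (Ideal.Quotient.mk P (s : A)) ≠ 0 := fun h =>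
      s.2 (show Ideal.Quotient.mk P (s : A) ∈ mb from Ideal.Quotient.eq_zero_iff_mem.1 h)
    have hmem : algebraMap R A r * s - a ∈ M := by
      show Ideal.Quotient.mk P (algebraMap R A r * s - a) ∈ mb
      rw [← Ideal.Quotient.eq_zero_iff_mem, map_sub, map_sub, map_mul, map_mul, sub_eq_zero]
      rw [show Ideal.Quotient.mk mb (Ideal.Quotient.mk P (algebraMap R A r)) =
        algebraMap (ResidueField R) ((A ⧸ P) ⧸ mb) (residue R r) from rfl, hc, mul_assoc,
        inv_mul_cancel₀ hs0, _root_.mul_one]
    rw [← IsLocalization.mk'_one (M := M.primeCompl) L (algebraMap R A r) |>.trans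
      (IsScalarTower.algebraMap_apply R A L r).symm, ← IsLocalization.mk'_sub,
      IsLocalization.AtPrime.mk'_mem_maximal_iff L M]
    simpa using hmem
  -- regularity of the sequence followed by the uniformizer
  obtain ⟨ϖ, hϖ⟩ := IsDiscreteValuationRing.exists_irreducible R
  let t : L := algebraMap R L ϖ
  have hIL : I.map (algebraMap A L) = Ideal.span {t} := by
    rw [hI, Ideal.map_map, ← IsScalarTower.algebraMap_eq, hϖ.maximalIdeal_eq, Ideal.map_span,
      Set.image_singleton]
  have htm : t ∈ maximalIdeal L := by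
    have h : I.map (algebraMap A L) ≤ M.map (algebraMap A L) := Ideal.map_mono (hP.1.2.trans hPM)
    rw [Localization.AtPrime.map_eq_maximalIdeal] at h
    exact h (hIL ▸ Ideal.mem_span_singleton_self t)
  have eT : LocalizedModule M.primeCompl (A ⧸ I) ≃ₗ[L] QuotSMulTop t L :=
    (locQuotEquiv M I).trans (Submodule.quotEquivOfEq _ _ (by
      rw [hIL, ← Submodule.ideal_span_singleton_smul, smul_eq_mul, Ideal.mul_top]))
  have htreg : IsSMulRegular L t := by
    refine isSMulRegular_iff_right_eq_zero_of_smul.mpr fun z hz => ?_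
    obtain ⟨a, s, rfl⟩ := IsLocalization.exists_mk'_eq M.primeCompl z
    rw [smul_eq_mul, show t = algebraMap A L (algebraMap R A ϖ) from IsScalarTower.algebraMap_apply R A L ϖ,
      IsLocalization.mul_mk'_eq_mk'_of_mul, IsLocalization.mk'_eq_zero_iff] at hz
    obtain ⟨w, hw⟩ := hz
    rw [IsLocalization.mk'_eq_zero_iff]
    refine ⟨w, (Module.Flat.isSMulRegular_of_isRegular (M := A) (isRegular_iff_ne_zero.2 hϖ.ne_zero))
      (show ϖ • (↑w * a) = ϖ • (0 : A) from ?_)⟩
    rw [smul_zero, Algebra.smul_def, ← hw]; ring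
  have hall : IsWeaklyRegular L (rs ++ [t]) := by
    refine IsLocalRing.isWeaklyRegular_of_perm_of_subset_maximalIdeal
      ((isWeaklyRegular_cons_iff L t rs).2 ⟨htreg, (eT.isWeaklyRegular_congr rs).1 hrsI⟩)
      (List.perm_append_comm (l₁ := [t]) (l₂ := rs)) fun r hr => ?_
    rcases List.mem_cons.1 hr with rfl | hr
    · exact htm
    · exact hrs r hr
  obtain ⟨-, hlast⟩ := (isWeaklyRegular_append_iff L rs [t]).1 hall
  rw [isWeaklyRegular_singleton_iff] at hlast
  let C := L ⧸ (Ideal.ofList rs • ⊤ : Submodule L L)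
  have hCq : Module.length L (QuotSMulTop t C) =
      Module.length (Localization.AtPrime P) (LocalizedModule P.primeCompl (A ⧸ I)) := by
    rw [← (quotOfListConsSMulTopEquivQuotSMulTopOuter L t rs).length_eq,
      (quotOfListConsSMulTopEquivQuotSMulTopInner L t rs).length_eq, ← hlenI]
    exact (Submodule.Quotient.equiv _ _ eT
      (by rw [Submodule.map_smul'', Submodule.map_top, LinearEquiv.range])).length_eq.symm
  have hfinlen : IsFiniteLength L (QuotSMulTop t C) := by
    refine Module.length_ne_top_iff.1 ?_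
    rw [hCq]
    exact Module.length_ne_top_iff.2 (isFiniteLength_localized hP)
  -- finiteness over the henselian base
  haveI : M.LiesOver (maximalIdeal R) := ⟨(maximalIdeal.isMaximal R).eq_of_le
    (Ideal.IsPrime.ne_top inferInstance) fun r hr => hPM (hmP hr)⟩
  haveI hCfin : Module.Finite R C := finite_cut M (Ideal.ofList rs) t htm hfinlen
    (Ideal.mem_map_of_mem _ (hϖ.maximalIdeal_eq ▸ Ideal.mem_span_singleton_self ϖ))
    (Ideal.span_le.2 hrs)
  haveI : Module.Flat R C := by
    have hC0 : IsSMulRegular C ϖ := fun x y h => hlast (by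
      show t • x = t • y
      rw [show t = algebraMap R L ϖ from rfl, algebraMap_smul, algebraMap_smul]
      exact h)
    exact flat_of_isSMulRegular hϖ hC0
  haveI : Module.Free R C := Module.free_of_flat_of_isLocalRing
  refine ⟨Module.finrank R C, ?_, finrank_mem_horizRanks C⟩
  rw [← hCq, ← length_restrict hres hfinlen, length_quotSMulTop hϖ]

theorem length_quotient_localization {A : Type u} [CommRing A] (P : Ideal A) [P.IsPrime] (I : Ideal A)
    (L : Type u) [CommRing L] [Algebra A L] [IsLocalization.AtPrime L P] :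
    Module.length L (L ⧸ I.map (algebraMap A L)) =
      Module.length (Localization.AtPrime P) (LocalizedModule P.primeCompl (A ⧸ I)) := by
  let e : Localization.AtPrime P ≃ₐ[A] L := IsLocalization.algEquiv P.primeCompl _ _
  rw [(locQuotEquiv P I).length_eq]
  let f : Localization.AtPrime P →+* L ⧸ I.map (algebraMap A L) :=
    (Ideal.Quotient.mk _).comp e.toRingEquiv.toRingHom
  have hf : Function.Surjective f := Ideal.Quotient.mk_surjective.comp e.surjective
  have hk : RingHom.ker f = I.map (algebraMap A (Localization.AtPrime P)) := by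
    have h : I.map (algebraMap A L) = (I.map (algebraMap A (Localization.AtPrime P))).map e.toRingEquiv.toRingHom := by
      rw [Ideal.map_map]
      exact congrArg (fun φ => Ideal.map φ I) (RingHom.ext fun a => (e.commutes a).symm)
    rw [← RingHom.comap_ker, Ideal.mk_ker, h]
    exact Ideal.comap_map_of_bijective _ e.bijective
  letI := f.toAlgebra
  rw [← Module.length_eq_of_surjective (S := L) (R := L ⧸ I.map (algebraMap A L)) Ideal.Quotient.mk_surjective |>.symm]
  symm
  have e2 : (Localization.AtPrime P ⧸ I.map (algebraMap A (Localization.AtPrime P))) ≃ₗ[Localization.AtPrime P]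
      L ⧸ I.map (algebraMap A L) :=
    (Submodule.quotEquivOfEq _ _ (show I.map (algebraMap A (Localization.AtPrime P)) =
      LinearMap.ker (Algebra.linearMap (Localization.AtPrime P) (L ⧸ I.map (algebraMap A L))) from hk.symm)).trans
      ((Algebra.linearMap (Localization.AtPrime P) (L ⧸ I.map (algebraMap A L))).quotKerEquivOfSurjective hf)
  rw [e2.length_eq, Module.length_eq_of_surjective (S := Localization.AtPrime P) (R := L ⧸ I.map (algebraMap A L)) hf]

theorem isLocalization_fraction (R B F : Type u) [CommRing R] [IsDomain R] [CommRing B] [IsDomain B] [Algebra R B]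
    [FaithfulSMul R B] [Algebra.IsIntegral R B] [Field F] [Algebra B F] [IsFractionRing B F] :
    IsLocalization (Algebra.algebraMapSubmonoid B (nonZeroDivisors R)) F := by
  have hM : ∀ m : Algebra.algebraMapSubmonoid B (nonZeroDivisors R), (m : B) ∈ nonZeroDivisors B := by
    rintro ⟨_, r, hr, rfl⟩
    exact mem_nonZeroDivisors_of_ne_zero ((map_ne_zero_iff _ (FaithfulSMul.algebraMap_injective R B)).2
      (nonZeroDivisors.ne_zero hr))
  rw [isLocalization_iff]
  refine ⟨fun m => IsLocalization.map_units F (⟨m, hM m⟩ : nonZeroDivisors B), fun z => ?_, fun {x y} h => ?_⟩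
  · obtain ⟨⟨a, b⟩, hz⟩ := IsLocalization.surj (nonZeroDivisors B) z
    obtain ⟨r, hr, hr0⟩ := Submodule.exists_mem_ne_zero_of_ne_bot
      (Ideal.comap_ne_bot_of_integral_mem (R := R) (I := Ideal.span {(b : B)}) (nonZeroDivisors.ne_zero b.2)
        (Ideal.mem_span_singleton_self _) (Algebra.IsIntegral.isIntegral _))
    obtain ⟨c, hc⟩ := Ideal.mem_span_singleton.1 (Ideal.mem_comap.1 hr)
    refine ⟨⟨a * c, algebraMap R B r, r, mem_nonZeroDivisors_of_ne_zero hr0, rfl⟩, ?_⟩
    show z * algebraMap B F (algebraMap R B r) = algebraMap B F (a * c)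
    rw [hc, map_mul, map_mul, ← hz, mul_assoc]
  · exact ⟨1, by rw [IsFractionRing.injective B F h]⟩

theorem finrank_fractionRing (R K B F : Type u) [CommRing R] [IsDomain R] [IsPrincipalIdealRing R] [Field K]
    [Algebra R K] [IsFractionRing R K]
    [CommRing B] [IsDomain B] [Algebra R B] [FaithfulSMul R B] [Module.Finite R B] [Field F] [Algebra B F]
    [IsFractionRing B F] [Algebra R F] [IsScalarTower R B F] [Algebra K F] [IsScalarTower R K F] :
    Module.finrank R B = Module.finrank K F ∧ Module.Finite K F := by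
  haveI := isLocalization_fraction R B F
  haveI : Module.IsTorsionFree R B := inferInstance
  haveI : Module.Free R B := inferInstance
  haveI : IsLocalizedModule (nonZeroDivisors R) (IsScalarTower.toAlgHom R B F).toLinearMap :=
    (isLocalizedModule_iff_isLocalization).2 inferInstance
  exact ⟨(Module.finrank_of_isLocalizedModule_of_free K (nonZeroDivisors R)
      (IsScalarTower.toAlgHom R B F).toLinearMap).symm,
    Module.Finite.of_isLocalizedModule (nonZeroDivisors R) (IsScalarTower.toAlgHom R B F).toLinearMap⟩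

end Groth.Agent.H7Index
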