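import Groth.Agent.ArInt.HenselSection
import Groth.Agent.ArInt.Inter
import Groth.Agent.ArInt.ModelLib
import Groth.Agent.CurveEmbed.Points
import Groth.Agent.Lib.CurveSection
import Groth.Agent.Div21Lib.StalkIdeal
import Groth.Agent.ResolveX.FactorBlow
import Groth.Agent.RegLoc6.Normal
import Groth.Agent.H7Index.Index

/-!
A divisor cutting one component of the closed fibre transversally at a single point.
-/

set_option autoImplicit false
set_option linter.style.haveILetI false
set_option linter.unusedSectionVars false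
set_option backward.isDefEq.respectTransparency false
set_option backward.isDefEq.respectTransparency.types false
set_option maxHeartbeats 1000000

universe u

open CategoryTheory CategoryTheory.Limits AlgebraicGeometry TopologicalSpace
open Groth.Agent.H23.PicMul

noncomputable section

namespace Groth.Agent.H7Index.Transversal

open Groth.Agent Groth.Agent.ArInt

variable {R : Type u} [CommRing R] [IsDomain R] [IsDiscreteValuationRing R] [HenselianLocalRing R]
  {X : Over (Spec (CommRingCat.of R))}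

/-- A function vanishing in the closed fibre only at one point near it defines there a divisor meeting the
closed fibre only there. -/
theorem exists_divisor_of_equation [IsIntegral X.left] [IsProper X.hom] {x : X.left}
    (hxs : X.hom x = IsLocalRing.closedPoint R) {U : X.left.Opens} (hU : IsAffineOpen U) (hxU : x ∈ U)
    (f : Γ(X.left, U)) (hf0 : f ≠ 0) (hxf : x ∉ X.left.basicOpen f) (O : X.left.Opens) (hxO : x ∈ O)
    (hO : ∀ w ∈ U, w ∈ O → X.hom w = IsLocalRing.closedPoint R → w ∉ X.left.basicOpen f → w = x) :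
    ∃ (D : Scheme.{u}) (d : D ⟶ X.left), IsClosedImmersion d ∧ BlowUp.IsEffCartierIdeal d.ker ∧
      x ∈ Set.range d.base ∧
      (∀ w ∈ Set.range d.base, X.hom w = IsLocalRing.closedPoint R → w = x) ∧
      Div21Lib.stI d.ker x = Ideal.span {X.left.presheaf.germ U x hxU f} := by
  classical
  haveI : IsLocallyNoetherian X.left := LocallyOfFiniteType.isLocallyNoetherian X.hom
  haveI : CompactSpace X.left := QuasiCompact.compactSpace_of_compactSpace X.hom
  haveI : IsNoetherian X.left := {}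
  haveI : IsNoetherianRing Γ(X.left, U) := IsLocallyNoetherian.component_noetherian ⟨U, hU⟩
  let Z : Scheme.{u} := Spec (CommRingCat.of (Γ(X.left, U) ⧸ Ideal.span ({f} : Set Γ(X.left, U))))
  let m : Γ(X.left, U) ⟶ CommRingCat.of (Γ(X.left, U) ⧸ Ideal.span ({f} : Set Γ(X.left, U))) :=
    CommRingCat.ofHom (Ideal.Quotient.mk _)
  haveI : IsClosedImmersion (Spec.map m) := IsClosedImmersion.spec_of_surjective _ Ideal.Quotient.mk_surjective
  let i : Z ⟶ X.left := Spec.map m ≫ hU.fromSpec
  haveI : IsImmersion i := inferInstance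
  haveI : QuasiCompact i := QuasiCompact.of_comp i X.hom
  have hmem : ∀ w : Z, i w ∈ U ∧ i w ∉ X.left.basicOpen f := fun w => by
    refine ⟨hU.range_fromSpec.le ⟨Spec.map m w, rfl⟩, fun h => ?_⟩
    have h2 : Spec.map m w ∈ PrimeSpectrum.basicOpen f := by
      rw [← hU.fromSpec_preimage_basicOpen]; exact h
    refine h2 ?_
    show Ideal.Quotient.mk (Ideal.span ({f} : Set Γ(X.left, U))) f ∈ (w : PrimeSpectrum _).asIdeal
    rw [Ideal.Quotient.eq_zero_iff_mem.2 (Ideal.mem_span_singleton_self f)]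
    exact zero_mem _
  let p := hU.primeIdealOf ⟨x, hxU⟩
  have hfp : Ideal.span ({f} : Set Γ(X.left, U)) ≤ p.asIdeal :=
    (Ideal.span_singleton_le_iff_mem _).2 ((mem_prime_iff hU hxU f).2 hxf)
  have hlift : ∀ P : PrimeSpectrum Γ(X.left, U), Ideal.span ({f} : Set Γ(X.left, U)) ≤ P.asIdeal →
      ∃ w : Z, Spec.map m w = P := fun P hP => by
    haveI : (P.asIdeal.map (Ideal.Quotient.mk (Ideal.span ({f} : Set Γ(X.left, U))))).IsPrime :=
      Ideal.map_isPrime_of_surjective Ideal.Quotient.mk_surjective (by rwa [Ideal.mk_ker])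
    refine ⟨(⟨_, this⟩ : PrimeSpectrum _), PrimeSpectrum.ext ?_⟩
    show (P.asIdeal.map (Ideal.Quotient.mk _)).comap (Ideal.Quotient.mk _) = P.asIdeal
    rw [Ideal.comap_map_of_surjective _ Ideal.Quotient.mk_surjective, ← RingHom.ker_eq_comap_bot, Ideal.mk_ker]
    exact sup_eq_left.2 hP
  obtain ⟨z, hz⟩ := hlift p hfp
  have hiz : i z = x := by
    show hU.fromSpec (Spec.map m z) = x
    rw [hz]
    exact hU.fromSpec_primeIdealOf ⟨x, hxU⟩
  have hinj : Function.Injective i := i.isEmbedding.injective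
  haveI : IsAffine Z := inferInstance
  obtain ⟨W, hzW, hfin, hW⟩ := exists_finite_nhd (i ≫ X.hom) (z := z) (by
      show X.hom (i z) = _; rw [hiz]; exact hxs) (i ⁻¹ᵁ O) (by show i z ∈ O; rwa [hiz]) fun w hw hws =>
    hinj ((hO (i w) (hmem w).1 hw hws (hmem w).2).trans hiz.symm)
  let d : (W : Scheme.{u}) ⟶ X.left := W.ι ≫ i
  haveI hdfin : IsFinite (d ≫ X.hom) := by rw [show d ≫ X.hom = W.ι ≫ i ≫ X.hom from Category.assoc _ _ _]; exact hfin
  haveI : IsProper d := IsProper.of_comp d X.hom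
  haveI hd : IsClosedImmersion d := IsClosedImmersion.of_isPreimmersion d d.isClosedMap.isClosed_range
  have hloc : ∀ w : (W : Scheme.{u}), ∃ g : Γ(X.left, U), d w ∈ X.left.basicOpen g ∧
      AModX.resR (X.left.basicOpen_le g) f ∈ nonZeroDivisors Γ(X.left, X.left.basicOpen g) ∧
      d.ker.ideal (X.left.affineBasicOpen (U := ⟨U, hU⟩) g) = Ideal.span {AModX.resR (X.left.basicOpen_le g) f} := by
      intro w
      obtain ⟨O', hO', hO'W⟩ := i.isEmbedding.isInducing.isOpen_iff.1 W.isOpen
      obtain ⟨g, hg, hwg⟩ := hU.exists_basicOpen_le (V := U ⊓ ⟨O', hO'⟩)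
        ⟨d w, (hmem w.1).1, (hO'W.ge w.2 : i w.1 ∈ O')⟩ (hmem w.1).1
      refine ⟨g, hwg, ?_, ?_⟩
      · haveI : Nonempty (X.left.basicOpen g) := ⟨⟨_, hwg⟩⟩
        haveI : IsDomain Γ(X.left, X.left.basicOpen g) := inferInstance
        refine mem_nonZeroDivisors_of_ne_zero (M₀ := Γ(X.left, X.left.basicOpen g)) fun h => hf0 ?_
        exact map_injective_of_isIntegral X.left (homOfLE (X.left.basicOpen_le g)) (h.trans (map_zero _).symm)
      · have hle : i ⁻¹ᵁ X.left.basicOpen g ≤ W := fun v hv => (hO'W.le ((hg hv).2) : v ∈ (W : Set Z))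
        show d.ker.ideal (X.left.affineBasicOpen (U := ⟨U, hU⟩) g) = _
        rw [Scheme.Hom.ker_apply]
        refine (KRegLib.ker_app_comp_ι i W hle).trans ?_
        refine (i.ker_apply (X.left.affineBasicOpen (U := ⟨U, hU⟩) g)).symm.trans
          ((i.ker.map_ideal_basicOpen ⟨U, hU⟩ g).symm.trans ?_)
        rw [Scheme.Hom.ker_apply]
        have hk : RingHom.ker (i.app U).hom = Ideal.span ({f} : Set Γ(X.left, U)) := by
          haveI : IsIso (Z.presheaf.map (homOfLE (le_top : i ⁻¹ᵁ U ≤ ⊤)).op) := by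
            haveI : IsIso (homOfLE (le_top : i ⁻¹ᵁ U ≤ ⊤)) :=
              ⟨homOfLE (fun w _ => (hmem w).1), rfl, rfl⟩
            infer_instance
          have h1 : i.app U = m ≫ (Scheme.ΓSpecIso _).inv ≫
              Z.presheaf.map (homOfLE (le_top : i ⁻¹ᵁ U ≤ ⊤)).op := by
            rw [Scheme.Hom.comp_app, hU.fromSpec_app_self, Category.assoc, (Spec.map m).naturality,
              ← Category.assoc m, Scheme.ΓSpecIso_inv_naturality m, Category.assoc]
            rfl
          rw [h1]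
          simp only [CommRingCat.hom_comp]
          rw [RingHom.ker_comp_of_injective]
          · exact Ideal.mk_ker
          · exact ((ConcreteCategory.bijective_of_isIso
              (Z.presheaf.map (homOfLE (le_top : i ⁻¹ᵁ U ≤ ⊤)).op)).1).comp
              (ConcreteCategory.bijective_of_isIso (Scheme.ΓSpecIso _).inv).1
        rw [hk, Ideal.map_span, Set.image_singleton]
        rfl
  have hdz : d ⟨z, hzW⟩ = x := hiz
  refine ⟨(W : Scheme.{u}), d, hd, ?_, ⟨⟨z, hzW⟩, hdz⟩, ?_, ?_⟩
  · intro y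
    by_cases hy : y ∈ Set.range d
    · obtain ⟨w, rfl⟩ := hy
      obtain ⟨g, hwg, hg0, hg⟩ := hloc w
      exact ⟨X.left.affineBasicOpen (U := ⟨U, hU⟩) g, hwg, _, hg0, hg⟩
    · obtain ⟨_, ⟨V, hV, rfl⟩, hyV, hVd⟩ := X.left.isBasis_affineOpens.exists_subset_of_mem_open hy
        d.isClosedEmbedding.isClosed_range.isOpen_compl
      refine ⟨⟨V, hV⟩, hyV, 1, one_mem _, ?_⟩
      rw [Ideal.span_singleton_one, Scheme.Hom.ker_apply]
      have hbot : d ⁻¹ᵁ V = ⊥ := eq_bot_iff.2 fun v hv => (hVd hv ⟨v, rfl⟩).elim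
      haveI : Subsingleton Γ((W : Scheme.{u}), d ⁻¹ᵁ V) := by rw [hbot]; infer_instance
      exact eq_top_iff.2 fun a _ => Subsingleton.elim _ _
  · rintro _ ⟨w, rfl⟩ hws
    have h := hW w.1 w.2 hws
    show i w.1 = x
    rw [h, hiz]
  · obtain ⟨g, hwg, -, hg⟩ := hloc ⟨z, hzW⟩
    rw [hdz] at hwg
    rw [Div21Lib.stI_eq d.ker (X.left.affineBasicOpen (U := ⟨U, hU⟩) g) hwg, hg, Ideal.map_span, Set.image_singleton]
    congr 2
    exact TopCat.Presheaf.germ_res_apply X.left.presheaf (homOfLE (X.left.basicOpen_le g)) x hwg f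

/-- A closed point of a vertical curve at which it is normal, off a proper closed subset. -/
theorem exists_normal_point [IsSurf X] (Γ : ArSurf.VertComp R X) (Z : Set Γ.curve.left) (hZ : IsClosed Z)
    (hη : genericPoint Γ.curve.left ∉ Z) :
    ∃ c : Γ.curve.left, IsClosed ({c} : Set Γ.curve.left) ∧ c ∉ Z ∧
      IsIntegrallyClosed (Γ.curve.left.presheaf.stalk c) := by
  let C := Γ.curve.left
  let k := IsLocalRing.ResidueField R
  haveI : IsNoetherian C := CurveCohLib.isNoetherian_of_proper (k := k)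
  obtain ⟨_, ⟨V, hV, rfl⟩, hηV, hVZ⟩ := C.isBasis_affineOpens.exists_subset_of_mem_open hη hZ.isOpen_compl
  replace hV : IsAffineOpen V := hV
  let h : C ⟶ Spec (CommRingCat.of k) := Γ.curve.hom
  letI : Algebra k Γ(C, V) := ((C.presheaf.map (homOfLE le_top).op).hom.comp (Coh.toGlobal h)).toAlgebra
  haveI : LocallyOfFiniteType h :=
    (inferInstance : LocallyOfFiniteType (C ↘ Spec (CommRingCat.of k)))
  haveI : Algebra.FiniteType k Γ(C, V) := by
    have h1 : (h.appLE ⊤ V le_top).hom.FiniteType :=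
      h.finiteType_appLE (isAffineOpen_top _) hV _
    have h2 := h1.comp (RingHom.FiniteType.of_surjective _
      (ConcreteCategory.bijective_of_isIso (Scheme.ΓSpecIso (CommRingCat.of k)).inv).2)
    exact h2
  haveI : Nonempty V := ⟨⟨_, hηV⟩⟩
  let pη := hV.primeIdealOf ⟨genericPoint C, hηV⟩
  obtain ⟨g, hg0, hgη⟩ : ∃ g : Γ(C, V), g ≠ 0 ∧ ∀ p : PrimeSpectrum Γ(C, V), p = pη → g ∉ p.asIdeal := by
    exact ⟨1, one_ne_zero, fun p _ h1 => p.2.ne_top ((Ideal.eq_top_iff_one _).2 h1)⟩
  obtain ⟨m, hm, -, hreg⟩ := H7Index.exists_maximal_regular (k := k) g hg0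
  let c : C := hV.fromSpec (⟨m, hm.isPrime⟩ : PrimeSpectrum Γ(C, V))
  have hcV : c ∈ V := hV.range_fromSpec.le ⟨_, rfl⟩
  have hprime : hV.primeIdealOf ⟨c, hcV⟩ = (⟨m, hm.isPrime⟩ : PrimeSpectrum Γ(C, V)) :=
    hV.fromSpec.isOpenEmbedding.injective (hV.fromSpec_primeIdealOf ⟨c, hcV⟩)
  haveI := hm.isPrime
  letI := TopCat.Presheaf.algebra_section_stalk C.presheaf ⟨c, hcV⟩
  haveI : IsLocalization.AtPrime (C.presheaf.stalk c) m := by
    have := hV.isLocalization_stalk ⟨c, hcV⟩
    rwa [hprime] at this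
  haveI := hreg
  haveI : IsRegularLocalRing (C.presheaf.stalk c) :=
    IsRegularLocalRing.of_ringEquiv (IsLocalization.algEquiv m.primeCompl (Localization.AtPrime m) _).toRingEquiv
  refine ⟨c, ?_, fun hc => hVZ hcV hc, RegLoc6.isIntegrallyClosed_of_isRegularLocalRing _⟩
  by_contra hcl
  have hcη : c = genericPoint C := CurveCohLib.eq_genericPoint_of_not_isClosed Γ.dim_eq hcl
  -- then the generic point would be closed in an affine neighbourhood
  refine CurveEmbed.genericPoint_not_closed Γ.dim_eq (hcη ▸ ?_)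
  haveI : JacobsonSpace C := LocallyOfFiniteType.jacobsonSpace h
  refine isClosed_singleton_of_isLocallyClosed_singleton ?_
  have himg : ({c} : Set C) = hV.fromSpec '' {(⟨m, hm.isPrime⟩ : PrimeSpectrum Γ(C, V))} :=
    (Set.image_singleton (f := (hV.fromSpec : Spec _ → C)) (a := (⟨m, hm.isPrime⟩ : PrimeSpectrum Γ(C, V)))).symm
  rw [himg]
  exact ((PrimeSpectrum.isClosed_singleton_iff_isMaximal _).2 hm).isLocallyClosed.image
    hV.fromSpec.isOpenEmbedding.isInducing hV.fromSpec.isOpenEmbedding.isOpen_range.isLocallyClosed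

/-- The degree map hits every basis vector. -/
theorem exists_inter_eq_ite [IsSurf X] [Flat X.hom] [IsAlgClosed (IsLocalRing.ResidueField R)] {n : ℕ}
    (Γ : Fin n → ArSurf.VertComp R X) (hΓ : Models.IsComponentList R X Γ) (i : Fin n) :
    ∃ M : X.left.Modules, PicF.IsInvertible M ∧ ∀ j, ArSurf.inter R X M (Γ j) = if j = i then 1 else 0 := by
  classical
  let k := IsLocalRing.ResidueField R
  let ι := (Γ i).ι
  let C := (Γ i).curve.left
  haveI : IsNoetherian C := CurveCohLib.isNoetherian_of_proper (k := k)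
  let Z₀ : Set X.left := ⋃ j ∈ ({i}ᶜ : Finset (Fin n)), Set.range (Γ j).ι.base
  have hZ₀ : IsClosed Z₀ := Set.Finite.isClosed_biUnion (Finset.finite_toSet _)
    fun j _ => (Γ j).ι.isClosedEmbedding.isClosed_range
  have hη : genericPoint C ∉ ι ⁻¹' Z₀ := fun h => by
    obtain ⟨j, hj, hmem⟩ := Set.mem_iUnion₂.1 h
    refine gen_notMem (Γ i) (Γ j) (fun e => ?_) ((support_ker (Γ j)).ge hmem)
    exact (Finset.mem_compl.1 hj) (Finset.mem_singleton.2 (hΓ.1 e).symm)
  obtain ⟨c, hc, hcZ, hcn⟩ := exists_normal_point (Γ i) _ (hZ₀.preimage ι.continuous) hη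
  haveI := CurveEmbed.isDVR_of_normal k (Γ i).dim_eq hc hcn
  let x := ι c
  have hxs : X.hom x = IsLocalRing.closedPoint R := by
    show (ι ≫ X.hom) c = _
    rw [(Γ i).w, Scheme.Hom.comp_apply]
    refine PrimeSpectrum.ext ?_
    show Ideal.comap (IsLocalRing.residue R) _ = IsLocalRing.maximalIdeal R
    rw [Ideal.eq_bot_of_prime ((Γ i).curve.hom c).asIdeal, ← RingHom.ker_eq_comap_bot, IsLocalRing.ker_residue]
  obtain ⟨_, ⟨U, hU, rfl⟩, hxU, -⟩ := X.left.isBasis_affineOpens.exists_subset_of_mem_open (Set.mem_univ x) isOpen_univ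
  replace hU : IsAffineOpen U := hU
  -- the equation
  obtain ⟨t, ht⟩ := IsDiscreteValuationRing.exists_irreducible (C.presheaf.stalk c)
  obtain ⟨t', ht'⟩ := ι.stalkMap_surjective c t
  letI := TopCat.Presheaf.algebra_section_stalk X.left.presheaf ⟨x, hxU⟩
  haveI := hU.isLocalization_stalk ⟨x, hxU⟩
  obtain ⟨f, s, hfs⟩ := IsLocalization.exists_mk'_eq (hU.primeIdealOf ⟨x, hxU⟩).asIdeal.primeCompl t'
  have hspan : Ideal.span {(X.left.presheaf.germ U x hxU f : X.left.presheaf.stalk x)} = Ideal.span {t'} := by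
    rw [← hfs]
    refine Ideal.span_singleton_eq_span_singleton.2 ⟨(IsLocalization.map_units (X.left.presheaf.stalk x) s).unit⁻¹, ?_⟩
    show _ = IsLocalization.mk' (X.left.presheaf.stalk x) f s
    rw [IsLocalization.eq_mk'_iff_mul_eq, mul_assoc, IsUnit.val_inv_mul, mul_one]
    rfl
  have hmax : (Ideal.span {(X.left.presheaf.germ U x hxU f : X.left.presheaf.stalk x)}).map (ι.stalkMap c).hom =
      IsLocalRing.maximalIdeal (C.presheaf.stalk c) := by
    rw [hspan, Ideal.map_span, Set.image_singleton, ht.maximalIdeal_eq, show (ι.stalkMap c).hom t' = t from ht']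
  have hne : ι.stalkMap c (X.left.presheaf.germ U x hxU f) ≠ 0 := fun h0 => by
    rw [Ideal.map_span, Set.image_singleton] at hmax
    rw [show (ι.stalkMap c).hom (X.left.presheaf.germ U x hxU f) = 0 from h0, Ideal.span_singleton_eq_bot.2 rfl] at hmax
    exact (IsDiscreteValuationRing.not_a_field (C.presheaf.stalk c)) hmax.symm
  have hxf : x ∉ X.left.basicOpen f := fun h => by
    have h1 := ((X.left.mem_basicOpen f x hxU).1 h)
    have h2 : Ideal.span {(X.left.presheaf.germ U x hxU f : X.left.presheaf.stalk x)} = ⊤ :=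
      Ideal.span_singleton_eq_top.2 h1
    rw [h2, Ideal.map_top] at hmax
    exact (IsLocalRing.maximalIdeal.isMaximal _).ne_top hmax.symm
  have hcU : c ∈ ι ⁻¹ᵁ U := hxU
  have happ : ι.app U f ≠ 0 := fun h0 => hne (by
    rw [Scheme.Hom.germ_stalkMap_apply, h0, map_zero])
  have hf0 : f ≠ 0 := fun h0 => happ (by rw [h0, map_zero])
  let Zc : Set C := ((C.basicOpen (ι.app U f) : C.Opens) : Set C)ᶜ
  have hηZc : genericPoint C ∈ C.basicOpen (ι.app U f) := by
    refine ((genericPoint_spec C).mem_open_set_iff (C.basicOpen (ι.app U f)).isOpen).2 ?_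
    rw [Set.univ_inter]
    by_contra hne'
    refine happ (basicOpen_eq_bot_iff (ι.app U f) |>.1 ?_)
    exact SetLike.coe_injective (Set.not_nonempty_iff_eq_empty.1 hne')
  have hZc : Zc.Finite := CurveCohLib.finite_of_closedPoints (C.basicOpen (ι.app U f)).isOpen.isClosed_compl
    fun w hw => by
      by_contra hcl
      exact hw (CurveCohLib.eq_genericPoint_of_not_isClosed (Γ i).dim_eq hcl ▸ hηZc)
  have hZc' : IsClosed (Zc \ {c}) := by
    rw [← Set.biUnion_of_singleton (Zc \ {c})]
    refine (hZc.subset Set.diff_subset).isClosed_biUnion fun w hw => ?_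
    by_contra hcl
    exact hw.1 (CurveCohLib.eq_genericPoint_of_not_isClosed (Γ i).dim_eq hcl ▸ hηZc)
  let O : X.left.Opens := ⟨(Z₀ ∪ ι '' (Zc \ {c}))ᶜ,
    (hZ₀.union (ι.isClosedEmbedding.isClosedMap _ hZc')).isOpen_compl⟩
  have hxO : x ∈ O := by
    rintro (h | ⟨w, hw, hwx⟩)
    · exact hcZ h
    · exact hw.2 (ι.isClosedEmbedding.injective hwx)
  have hO : ∀ w ∈ U, w ∈ O → X.hom w = IsLocalRing.closedPoint R → w ∉ X.left.basicOpen f → w = x := by
    intro w hwU hwO hws hwf
    obtain ⟨j, hj⟩ := Set.mem_iUnion.1 (cover X Γ hΓ hws)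
    by_cases hji : j = i
    · subst hji
      obtain ⟨c', rfl⟩ := hj
      by_contra hne'
      refine hwO (Or.inr ⟨c', ⟨fun h => hwf ?_, fun h => hne' (congrArg ι h)⟩, rfl⟩)
      have h' : c' ∈ C.basicOpen (ι.app U f) := h
      rw [← Scheme.preimage_basicOpen] at h'
      exact h'
    · exact absurd (Set.mem_iUnion₂.2 ⟨j, Finset.mem_compl.2 fun h => hji (Finset.mem_singleton.1 h), hj⟩)
        fun h => hwO (Or.inl h)
  obtain ⟨D, d, hd, hE, hxD, hDs, hst⟩ := exists_divisor_of_equation hxs hU hxU f hf0 hxf O hxO hO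
  haveI := hd
  have hsupp : ∀ w ∈ (d.ker.support : Set X.left), X.hom w = IsLocalRing.closedPoint R → w = x := by
    intro w hw hws
    rw [Scheme.Hom.support_ker] at hw
    have hw' : w ∈ closure (Set.range d.base) := hw
    rw [d.isClosedEmbedding.isClosed_range.closure_eq] at hw'
    exact hDs w hw' hws
  have hfib : ∀ j (z : (Γ j).curve.left), X.hom ((Γ j).ι z) = IsLocalRing.closedPoint R := fun j z => by
    show ((Γ j).ι ≫ X.hom) z = _
    rw [(Γ j).w, Scheme.Hom.comp_apply]
    refine PrimeSpectrum.ext ?_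
    show Ideal.comap (IsLocalRing.residue R) _ = IsLocalRing.maximalIdeal R
    rw [Ideal.eq_bot_of_prime ((Γ j).curve.hom z).asIdeal, ← RingHom.ker_eq_comap_bot, IsLocalRing.ker_residue]
  have hgen : ∀ j, (Γ j).ι.base (genericPoint (Γ j).curve.left) ∉ (d.ker.support : Set X.left) := fun j h => by
    have h1 := hsupp _ h (hfib j _)
    by_cases hji : j = i
    · subst hji
      refine CurveEmbed.genericPoint_not_closed (Γ j).dim_eq ?_
      rw [ι.isClosedEmbedding.injective h1]
      exact hc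
    · exact hcZ (Set.mem_iUnion₂.2 ⟨j, Finset.mem_compl.2 fun h' => hji (Finset.mem_singleton.1 h'), _, h1⟩)
  obtain ⟨M, hMinv, hM⟩ := H23.PicInv.exists_inverse (Big.isInvertible_ideal hE)
  have hM' : ClSub.IsInverseOf M (ClSub.idealMod d.ker) := ⟨(comm _ _).some ≪≫ hM.some⟩
  refine ⟨M, hMinv, fun j => ?_⟩
  by_cases hji : j = i
  · subst hji
    rw [if_pos rfl]
    let J := d.ker.comap ι
    have hJ : BlowUp.IsEffCartierIdeal J := Big.isEffCartier_comap ι hE (hgen j)
    have hJeq : J = CurvePoint.ptIdeal c hc := by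
      have hstc : Div21Lib.stI J c = IsLocalRing.maximalIdeal _ := by
        rw [Div21Lib.stI_comap]
        exact (congrArg (Ideal.map (ι.stalkMap c).hom) hst).trans hmax
      have hpt : Div21Lib.stI (CurvePoint.ptIdeal c hc) c = IsLocalRing.maximalIdeal _ := ResolveX.stI_point c hc
      have hJs : ∀ w, w ∈ (J.support : Set C) → w = c := fun w hw => by
        rw [Scheme.IdealSheafData.support_comap] at hw
        exact ι.isClosedEmbedding.injective (hsupp _ hw (hfib j w))
      have hall : ∀ w, Div21Lib.stI J w = Div21Lib.stI (CurvePoint.ptIdeal c hc) w := fun w => by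
        by_cases hwc : w = c
        · subst hwc; rw [hstc, hpt]
        · rw [ResolveX.stI_eq_top J (fun h => hwc (hJs w h)), ResolveX.stI_eq_top _ (fun h => hwc h)]
      refine Scheme.IdealSheafData.ext (funext fun V => le_antisymm (fun a ha => ?_) (fun a ha => ?_))
      · refine Div21Lib.mem_ideal_of_germ _ V a fun y hy => ?_
        rw [← hall, Div21Lib.stI_eq J V hy]
        exact Ideal.mem_map_of_mem _ ha
      · refine Div21Lib.mem_ideal_of_germ _ V a fun y hy => ?_
        rw [hall, Div21Lib.stI_eq _ V hy]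
        exact Ideal.mem_map_of_mem _ ha
    have hdi := Big.isInvertible_ideal hE
    rw [inter_inverse (Γ j) hdi hM', inter_eq_deg (Γ j) hdi]
    obtain ⟨e⟩ := cl_eq_iff.1 (Big.cl_idealMod_comap ι d.ker hE hJ)
    rw [CurveRR.deg_congr _ e 1]
    show -Curv2.deg k C (ClSub.idealMod J) 1 = 1
    rw [hJeq]
    show -Curv2.deg k C (CurvePoint.ptMod c hc) 1 = 1
    letI : Algebra k (C.residueField c) := Curv2.resAlgebra k C c
    have h1 : Module.finrank k (C.residueField c) = 1 :=
      ((LinearEquiv.ofBijective (Algebra.linearMap k (C.residueField c))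
        ⟨(Curv2.resMap k C c).injective, CurveSection.surjective_resMap k hc⟩).finrank_eq.symm).trans
        (Module.finrank_self k)
    have hdeg := CurveEmbed.deg_point k hc
    rw [h1] at hdeg
    rw [show Curv2.deg k C (CurvePoint.ptMod c hc) 1 = -((1 : ℕ) : ℤ) from hdeg]; rfl
  · rw [if_neg hji]
    refine (inter_eq_length (Γ j) hE (hgen j) hM').2.2 (Set.disjoint_left.2 ?_)
    rintro _ ⟨z, rfl⟩ hz
    have h1 := hsupp _ hz (hfib j z)
    exact hcZ (Set.mem_iUnion₂.2 ⟨j, Finset.mem_compl.2 fun h' => hji (Finset.mem_singleton.1 h'), z, h1⟩)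

end Groth.Agent.H7Index.Transversal
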